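import Mathlib

/-!
Smoothness and étaleness near a point read on affine opens.
-/

set_option autoImplicit false
universe u
open CategoryTheory AlgebraicGeometry

namespace Groth.Agent.LocStdLib

variable {X S : Scheme.{u}} (f : X ⟶ S)

theorem of_appLE {P : MorphismProperty Scheme.{u}} {Q : ∀ {R A : Type u} [CommRing R] [CommRing A], (R →+* A) → Prop}
    [HasRingHomProperty P Q] [P.IsStableUnderComposition] (hP : ∀ {A B : Scheme.{u}} (j : A ⟶ B) [IsOpenImmersion j], P j)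
    {V : S.Opens} (hV : IsAffineOpen V) {U : X.Opens} (hU : IsAffineOpen U) (e : U ≤ f ⁻¹ᵁ V)
    (h : Q (f.appLE V U e).hom) : P (U.ι ≫ f) := by
  rw [show U.ι ≫ f = f.resLE V U e ≫ V.ι from (Scheme.Hom.resLE_comp_ι f e).symm]
  refine P.comp_mem _ _ ?_ (hP _)
  haveI : IsAffine U := hU
  haveI : IsAffine V := hV
  rw [HasRingHomProperty.iff_of_isAffine (P := P)]
  have : (RingHom.toMorphismProperty Q).RespectsIso := RingHom.toMorphismProperty_respectsIso_iff.mp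
    (HasRingHomProperty.isLocal_ringHomProperty P (Q := Q)).respectsIso
  exact (MorphismProperty.arrow_mk_iso_iff (RingHom.toMorphismProperty Q)
    (arrowResLEAppIso f V U e)).mpr h

theorem exists_affine_of_nhd {P : MorphismProperty Scheme.{u}} {Q : ∀ {R A : Type u} [CommRing R] [CommRing A], (R →+* A) → Prop}
    [HasRingHomProperty P Q] {x : X} {V : S.Opens} (hV : IsAffineOpen V) (hxV : f x ∈ V)
    {W : X.Opens} (hxW : x ∈ W) (hW : P (W.ι ≫ f)) :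
    ∃ (U : X.Opens) (_ : IsAffineOpen U) (e : U ≤ f ⁻¹ᵁ V), x ∈ U ∧ Q (f.appLE V U e).hom := by
  obtain ⟨_, ⟨U, hU, rfl⟩, hxU, hUW⟩ := X.isBasis_affineOpens.exists_subset_of_mem_open
    (show x ∈ W ⊓ f ⁻¹ᵁ V from ⟨hxW, hxV⟩) (W ⊓ f ⁻¹ᵁ V).2
  have e : U ≤ f ⁻¹ᵁ V := fun z hz => (hUW hz).2
  refine ⟨U, hU, e, hxU, ?_⟩
  have hle : U ≤ W := fun z hz => (hUW hz).1
  have heq : W.ι ''ᵁ (W.ι ⁻¹ᵁ U) = U := by
    rw [Scheme.Hom.image_preimage_eq_opensRange_inf, Scheme.Opens.opensRange_ι, inf_eq_right.2 hle]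
  have hU' : IsAffineOpen (W.ι ⁻¹ᵁ U) := hU.preimage_of_isOpenImmersion W.ι (by rwa [Scheme.Opens.opensRange_ι])
  have e' : W.ι ⁻¹ᵁ U ≤ (W.ι ≫ f) ⁻¹ᵁ V := W.ι.preimage_mono e
  have h := HasRingHomProperty.appLE P (W.ι ≫ f) hW ⟨V, hV⟩ ⟨_, hU'⟩ e'
  rw [← Scheme.Hom.appLE_comp_appLE W.ι f V U (W.ι ⁻¹ᵁ U) e le_rfl, CommRingCat.hom_comp] at h
  haveI : IsIso (W.ι.appLE U (W.ι ⁻¹ᵁ U) le_rfl) := by
    rw [← Scheme.Hom.app_eq_appLE]; exact Scheme.Hom.isIso_app W.ι U (by rwa [Scheme.Opens.opensRange_ι])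
  have := (RingHom.RespectsIso.cancel_right_isIso (HasRingHomProperty.isLocal_ringHomProperty P (Q := Q)).respectsIso
    (f.appLE V U e) (W.ι.appLE U (W.ι ⁻¹ᵁ U) le_rfl)).1 h
  exact this

end Groth.Agent.LocStdLib
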